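import Groth.Prelude.Def_Disc
import Groth.Agent.Wiebe.Cone
import Groth.Agent.S9254
import Mathlib.RingTheory.Artinian.Ring
import Mathlib.RingTheory.HopkinsLevitzki
import Mathlib.RingTheory.Ideal.AssociatedPrime.Localization
import Mathlib.RingTheory.OrzechProperty
import Mathlib.RingTheory.Trace.Basic

/-!
Tate's trace formula for a finite free algebra `A[x₁, …, xₙ]/(f₁, …, fₙ)`.
-/

set_option autoImplicit false
set_option linter.style.haveILetI false
set_option maxHeartbeats 1000000
set_option backward.isDefEq.respectTransparency false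
universe u

open TensorProduct MvPolynomial

namespace Groth.Agent.TateDual

variable {A : Type u} [CommRing A] {n : ℕ}


theorem exists_diff (f : (MvPolynomial (Fin n) A)) : ∃ C : Fin n → (MvPolynomial (Fin n) A) ⊗[A] (MvPolynomial (Fin n) A),
    (f ⊗ₜ[A] (1 : (MvPolynomial (Fin n) A)) - (1 : (MvPolynomial (Fin n) A)) ⊗ₜ[A] f = ∑ j, C j * (X j ⊗ₜ[A] (1 : (MvPolynomial (Fin n) A)) - (1 : (MvPolynomial (Fin n) A)) ⊗ₜ[A] X j)) ∧
      ∀ j, Algebra.TensorProduct.lmul' (S := (MvPolynomial (Fin n) A)) A (C j) = pderiv j f := by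
  classical
  induction f using MvPolynomial.induction_on with
  | C a => exact ⟨0, by simp [MvPolynomial.C_eq_smul_one, TensorProduct.smul_tmul'], by simp⟩
  | add p q hp hq =>
    obtain ⟨c, hc, hc'⟩ := hp
    obtain ⟨d, hd, hd'⟩ := hq
    refine ⟨c + d, ?_, fun j => ?_⟩
    · simp only [Pi.add_apply, add_mul, Finset.sum_add_distrib, ← hc, ← hd, TensorProduct.add_tmul, TensorProduct.tmul_add]
      ring
    · simp [hc', hd']
  | mul_X p i hp =>
    obtain ⟨c, hc, hc'⟩ := hp
    refine ⟨fun j => c j * (X i ⊗ₜ[A] (1 : (MvPolynomial (Fin n) A))) + if j = i then (1 : (MvPolynomial (Fin n) A)) ⊗ₜ[A] p else 0, ?_, fun j => ?_⟩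
    · simp only [add_mul, Finset.sum_add_distrib, ite_mul, zero_mul, Finset.sum_ite_eq', Finset.mem_univ, if_true]
      rw [Finset.sum_congr rfl fun j _ => mul_right_comm (c j) (X i ⊗ₜ[A] (1 : (MvPolynomial (Fin n) A))) _, ← Finset.sum_mul, ← hc]
      simp only [sub_mul, mul_sub, Algebra.TensorProduct.tmul_mul_tmul, mul_one, one_mul]
      ring
    · rw [map_add, map_mul, hc', (pderiv j).leibniz]
      by_cases h : j = i
      · subst h; simp [mul_comm]; ring
      · simp [h, pderiv_X_of_ne (Ne.symm h), mul_comm]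

noncomputable section

variable {B : Type u} [CommRing B] [Algebra A B] (mk : MvPolynomial (Fin n) A →ₐ[A] B) (f : Fin n → (MvPolynomial (Fin n) A))
  (hmk : Function.Surjective mk) (hker : RingHom.ker mk = Ideal.span (Set.range f))


/-- the image of the Jacobian determinant -/
abbrev jac : B := mk (Matrix.det (Matrix.of fun i j : Fin n => pderiv j (f i)))

include hmk hker

theorem mk_f (i : Fin n) : mk (f i) = 0 := by
  rw [← RingHom.mem_ker, hker]
  exact Ideal.subset_span ⟨i, rfl⟩

theorem det_diff_ne_zero [Module.Finite A B] {κ : Type u} [Field κ] [Algebra A κ] (π : B →ₐ[A] κ)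
    (C : Fin n → Fin n → (MvPolynomial (Fin n) A) ⊗[A] (MvPolynomial (Fin n) A))
    (hC : ∀ i, f i ⊗ₜ[A] (1 : (MvPolynomial (Fin n) A)) - (1 : (MvPolynomial (Fin n) A)) ⊗ₜ[A] f i = ∑ j, C i j * (X j ⊗ₜ[A] (1 : (MvPolynomial (Fin n) A)) - (1 : (MvPolynomial (Fin n) A)) ⊗ₜ[A] X j)) :
    Algebra.TensorProduct.map mk (π.comp mk) (Matrix.of C).det ≠ 0 := by
  classical
  let ρ : (MvPolynomial (Fin n) A) →ₐ[A] κ := π.comp mk
  let a : Fin n → κ := fun j => ρ (X j)
  let Pk := MvPolynomial (Fin n) κ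
  let up : (MvPolynomial (Fin n) A) →ₐ[A] Pk := MvPolynomial.aeval (X : Fin n → Pk)
  let F : Fin n → Pk := fun i => up (f i)
  let D := Pk ⧸ Ideal.span (Set.range F)
  let u : (MvPolynomial (Fin n) A) ⊗[A] (MvPolynomial (Fin n) A) →ₐ[A] Pk := Algebra.TensorProduct.productMap up ((IsScalarTower.toAlgHom A κ Pk).comp ρ)
  let mkF : Pk →ₐ[A] D := Ideal.Quotient.mkₐ A (Ideal.span (Set.range F))
  let φ : B →ₐ[A] D := AlgHom.liftOfSurjective mk hmk (mkF.comp up) (by
    rw [show RingHom.ker mk.toRingHom = RingHom.ker mk from rfl, hker, Ideal.span_le]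
    rintro _ ⟨i, rfl⟩
    exact Ideal.Quotient.eq_zero_iff_mem.2 (Ideal.subset_span ⟨i, rfl⟩))
  have hφ : ∀ x, φ (mk x) = mkF (up x) := fun x => AlgHom.liftOfSurjective_apply _ _ _ _ x
  let h : B ⊗[A] κ →ₐ[A] D := Algebra.TensorProduct.productMap φ (IsScalarTower.toAlgHom A κ D)
  have hu : ∀ z : (MvPolynomial (Fin n) A) ⊗[A] (MvPolynomial (Fin n) A), h (Algebra.TensorProduct.map mk ρ z) =
      mkF (u z) := fun z => by
    induction z with
    | zero => simp
    | add x y hx hy => rw [map_add, map_add, map_add, map_add, hx, hy]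
    | tmul x y =>
      show φ (mk x) * algebraMap κ D (ρ y) = mkF (up x * algebraMap κ Pk (ρ y))
      rw [map_mul, hφ]
      rfl
  let M : Matrix (Fin n) (Fin n) Pk := (Matrix.of C).map u
  let g : Fin n → Pk := fun j => X j - algebraMap κ Pk (a j)
  have hFg : ∀ i, F i = ∑ j, M i j * g j := fun i => by
    have h1 := congrArg u (hC i)
    have hρ : ρ (f i) = 0 := by
      show π (mk (f i)) = 0
      rw [mk_f mk f hmk hker, map_zero]
    simp only [map_sub, map_sum, map_mul] at h1
    have e1 : ∀ p : (MvPolynomial (Fin n) A), u (p ⊗ₜ[A] (1 : (MvPolynomial (Fin n) A))) = up p := fun p => by simp [u]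
    have e2 : ∀ p : (MvPolynomial (Fin n) A), u ((1 : (MvPolynomial (Fin n) A)) ⊗ₜ[A] p) = algebraMap κ Pk (ρ p) := fun p => by simp [u]
    simp only [e1, e2, hρ, map_zero, sub_zero] at h1
    refine h1.trans (Finset.sum_congr rfl fun j _ => ?_)
    show u (C i j) * (up (X j) - algebraMap κ Pk (a j)) = M i j * g j
    simp [M, g, up]
  intro hzero
  have hdet : M.det ∈ Ideal.span (Set.range F) := by
    rw [show M.det = u (Matrix.of C).det from (AlgHom.map_det u _).symm, ← Ideal.Quotient.eq_zero_iff_mem]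
    show mkF (u _) = 0
    rw [← hu, hzero, map_zero]
  have hFM : Ideal.span (Set.range F) ≤ Ideal.span (Set.range g) := by
    rw [Ideal.span_le]
    rintro _ ⟨i, rfl⟩
    rw [hFg i]
    exact Ideal.sum_mem _ fun j _ => Ideal.mul_mem_left _ _ (Ideal.subset_span ⟨j, rfl⟩)
  have hMne : Ideal.span (Set.range g) ≠ ⊤ := fun htop => by
    have hle : Ideal.span (Set.range g) ≤ RingHom.ker (MvPolynomial.eval a) := Ideal.span_le.2 (by
      rintro _ ⟨j, rfl⟩
      simp only [g, SetLike.mem_coe, RingHom.mem_ker, map_sub]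
      rw [show algebraMap κ Pk (a j) = MvPolynomial.C (a j) from rfl, MvPolynomial.eval_C, MvPolynomial.eval_X, sub_self])
    exact one_ne_zero ((map_one (MvPolynomial.eval a)).symm.trans (RingHom.mem_ker.1 (hle (htop ▸ trivial))))
  haveI : Nontrivial D := Ideal.Quotient.nontrivial_iff.2 fun htop => hMne (top_le_iff.1 (htop.symm.trans_le hFM))
  have hsurj : Function.Surjective h := by
    suffices H : ∀ p : Pk, ∃ z, h z = mkF p from fun d => by
      obtain ⟨p, rfl⟩ := Ideal.Quotient.mkₐ_surjective A _ d; exact H p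
    intro p
    induction p using MvPolynomial.induction_on with
    | C c => exact ⟨1 ⊗ₜ c, by simp [h, mkF]; rfl⟩
    | add p q hp hq =>
      obtain ⟨x, hx⟩ := hp; obtain ⟨y, hy⟩ := hq
      exact ⟨x + y, by rw [map_add, hx, hy, map_add]⟩
    | mul_X p j hp =>
      obtain ⟨x, hx⟩ := hp
      refine ⟨x * (mk (X j) ⊗ₜ 1), ?_⟩
      rw [map_mul, hx, map_mul]
      congr 1
      simp [h, hφ, up]
  haveI : Module.Finite κ D := by
    obtain ⟨s, hs⟩ := Module.Finite.fg_top (R := A) (M := B)
    refine ⟨⟨s.image φ, top_le_iff.1 fun d _ => ?_⟩⟩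
    obtain ⟨z, rfl⟩ := hsurj d
    induction z with
    | zero => rw [map_zero]; exact Submodule.zero_mem _
    | add x y hx hy => rw [map_add]; exact Submodule.add_mem _ (hx trivial) (hy trivial)
    | tmul b c =>
      have hb : φ b ∈ Submodule.span κ ((s.image φ : Finset D) : Set D) := by
        have hbm : φ b ∈ Submodule.map φ.toLinearMap (Submodule.span A (s : Set B)) := ⟨b, hs ▸ trivial, rfl⟩
        rw [Submodule.map_span] at hbm
        rw [Finset.coe_image]
        exact Submodule.span_le_restrictScalars A κ _ hbm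
      show φ b * algebraMap κ D c ∈ _
      rw [mul_comm, ← Algebra.smul_def]
      exact Submodule.smul_mem _ c hb
  haveI : IsArtinianRing D := IsArtinianRing.of_finite κ D
  have hrel : Synt.IsRelGCI κ n n F := fun p hp => ⟨le_rfl, by
    haveI : IsArtinianRing (p.asIdeal.Fiber (Synt.RelGCIRing κ n n F)) :=
      IsArtinianRing.of_finite p.asIdeal.ResidueField (p.asIdeal.Fiber (Synt.RelGCIRing κ n n F))
    rw [Nat.sub_self, Nat.cast_zero]
    haveI := hp
    exact ringKrullDimZero_iff_ringKrullDim_eq_zero.1 ((isArtinianRing_iff_isNoetherianRing_krullDimLE_zero (R := p.asIdeal.Fiber (Synt.RelGCIRing κ n n F))).1 inferInstance).2⟩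
  have hac := Wiebe.acyclic_of_isKoszulRegularSeq (Groth.Agent.S9254.result κ n n F hrel)
  have hcolon : ∀ d : Pk, (∀ j, d * g j ∈ Ideal.span (Set.range F)) → d ∈ Ideal.span (Set.range F) := fun d hd => by
    have h1 := Wiebe.mem_of_mul_mem hac M hFg hd
    rwa [sup_eq_left.2 ((Ideal.span_singleton_le_iff_mem _).2 hdet)] at h1
  obtain ⟨q, hq, hqM⟩ := Ideal.exists_le_maximal ((Ideal.span (Set.range g)).map mkF.toRingHom) (fun htop => by
    refine hMne ?_
    have h1 := congrArg (Ideal.comap mkF.toRingHom) htop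
    rw [Ideal.comap_map_of_surjective' mkF.toRingHom (Ideal.Quotient.mkₐ_surjective A _), Ideal.comap_top] at h1
    refine (sup_eq_left.2 ?_).symm.trans h1
    exact (Ideal.mk_ker (I := Ideal.span (Set.range F))).le.trans hFM)
  haveI := hq
  have hass : q ∈ associatedPrimes D D := by
    refine Module.associatedPrimes.minimalPrimes_annihilator_subset_associatedPrimes D D ?_
    refine ⟨⟨hq.isPrime, ?_⟩, fun r hr hrq => ?_⟩
    · intro x hx
      have := Module.mem_annihilator.1 hx (1 : D)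
      rw [smul_eq_mul, mul_one] at this
      rw [this]; exact q.zero_mem
    · haveI := hr.1
      exact ((IsArtinianRing.isMaximal_of_isPrime r).eq_of_le hq.ne_top hrq).ge
  obtain ⟨hq', d, hd⟩ := isAssociatedPrime_iff.1 hass
  have hd0 : d ≠ 0 := fun h0 => hq'.ne_top (by rw [hd, h0]; simp)
  obtain ⟨d, rfl⟩ := Ideal.Quotient.mk_surjective d
  refine hd0 (Ideal.Quotient.eq_zero_iff_mem.2 (hcolon d fun j => ?_))
  have h2 : mkF (g j) ∈ q := hqM (Ideal.mem_map_of_mem mkF.toRingHom (Ideal.subset_span ⟨j, rfl⟩))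
  rw [hd] at h2
  rw [mul_comm, ← Ideal.Quotient.eq_zero_iff_mem, map_mul]
  simp only [Submodule.mem_colon_singleton, Submodule.mem_bot, LinearMap.mem_ker, LinearMap.toSpanSingleton_apply, smul_eq_mul] at h2
  exact h2

/-- The Casimir element. -/
theorem exists_diag [Module.Finite A B] : ∃ Δ : B ⊗[A] B,
    (∀ b : B, Δ * (b ⊗ₜ 1) = Δ * (1 ⊗ₜ b)) ∧ Algebra.TensorProduct.lmul' (S := B) A Δ = jac mk f ∧
    ∀ (κ : Type u) [Field κ] [Algebra A κ] (π : B →ₐ[A] κ),
      Algebra.TensorProduct.map (AlgHom.id A B) π Δ ≠ 0 := by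
  classical
  choose C hC hC' using fun i => exists_diff (f i)
  let q : (MvPolynomial (Fin n) A) ⊗[A] (MvPolynomial (Fin n) A) →ₐ[A] B ⊗[A] B := Algebra.TensorProduct.map mk mk
  refine ⟨q (Matrix.of C).det, fun b => ?_, ?_, fun κ _ _ π h => ?_⟩
  · have hg : ∀ j, q (Matrix.of C).det * (mk (X j) ⊗ₜ[A] (1 : B)) = q (Matrix.of C).det * ((1 : B) ⊗ₜ[A] mk (X j)) := fun j => by
      have h1 := Wiebe.det_mul_mem (Matrix.of C) (f := fun i => f i ⊗ₜ[A] (1 : (MvPolynomial (Fin n) A)) - (1 : (MvPolynomial (Fin n) A)) ⊗ₜ[A] f i)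
        (g := fun j => X j ⊗ₜ[A] (1 : (MvPolynomial (Fin n) A)) - (1 : (MvPolynomial (Fin n) A)) ⊗ₜ[A] X j) hC j
      have h2 : q ((Matrix.of C).det * (X j ⊗ₜ[A] (1 : (MvPolynomial (Fin n) A)) - (1 : (MvPolynomial (Fin n) A)) ⊗ₜ[A] X j)) = 0 := by
        refine (show Ideal.span _ ≤ RingHom.ker q.toRingHom from Ideal.span_le.2 ?_) h1
        rintro _ ⟨i, rfl⟩
        have hi : mk (f i) = 0 := mk_f mk f hmk hker i
        show q (_ - _) = 0
        simp [q, hi]
      rw [map_mul, map_sub, mul_sub, sub_eq_zero] at h2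
      simpa [q] using h2
    obtain ⟨b, rfl⟩ := hmk b
    induction b using MvPolynomial.induction_on with
    | C a =>
      rw [← MvPolynomial.algebraMap_eq, AlgHom.commutes, Algebra.TensorProduct.tmul_one_eq_one_tmul]
    | add x y hx hy => rw [map_add, TensorProduct.add_tmul, TensorProduct.tmul_add, mul_add, mul_add, hx, hy]
    | mul_X x j hx =>
      have e1 : ∀ s t : B, (s * t) ⊗ₜ[A] (1 : B) = (s ⊗ₜ 1) * (t ⊗ₜ 1) := fun s t => by simp
      have e2 : ∀ s t : B, (1 : B) ⊗ₜ[A] (s * t) = (1 ⊗ₜ s) * (1 ⊗ₜ t) := fun s t => by simp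
      rw [map_mul, e1, e2, ← mul_assoc, hx, mul_right_comm, hg, mul_right_comm, mul_assoc]
  · have hcomp : (Algebra.TensorProduct.lmul' (S := B) A).comp q = mk.comp (Algebra.TensorProduct.lmul' (S := (MvPolynomial (Fin n) A)) A) := by
      ext x <;> simp [q]
    rw [← AlgHom.comp_apply, hcomp, AlgHom.comp_apply, AlgHom.map_det]
    show mk _ = _
    refine congrArg (fun M => mk (Matrix.det M)) (Matrix.ext fun i j => ?_)
    exact hC' i j
  · refine det_diff_ne_zero mk f hmk hker π C hC ?_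
    rw [← h, ← AlgHom.comp_apply]
    congr 1
    ext x <;> simp [q]

/-- Tate's theorem. -/
theorem exists_omega_equiv [Module.Finite A B] [Module.Free A B] :
    ∃ e : B ≃ₗ[B] Disc.Omega A B, e (jac mk f) = Disc.Omega.trace A B := by
  classical
  obtain ⟨Δ, hΔ, hμ, hne⟩ := exists_diag mk f hmk hker
  rcases subsingleton_or_nontrivial A with hA | hA
  · haveI : Subsingleton B := Module.subsingleton A B
    haveI : Subsingleton (Disc.Omega A B) := Module.subsingleton B _
    exact ⟨0, Subsingleton.elim _ _⟩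
  let bas := Module.Free.chooseBasis A B
  let pr : Disc.Omega A B → B ⊗[A] B →ₗ[A] B := fun l => TensorProduct.lift ((LinearMap.lsmul A B).comp l.toLinearMap)
  have hpl : ∀ (b : B) l z, pr (b • l) z = pr l (z * (b ⊗ₜ 1)) := fun b l z => by
    induction z with
    | zero => simp
    | add x y hx hy => rw [map_add, add_mul, map_add, hx, hy]
    | tmul x y => simp [pr, mul_comm b x]
  have hpr : ∀ (b : B) l z, pr l (z * (1 ⊗ₜ b)) = b * pr l z := fun b l z => by
    induction z with
    | zero => simp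
    | add x y hx hy => rw [add_mul, map_add, map_add, hx, hy, mul_add]
    | tmul x y => simp [pr, mul_comm b y]
  let Φ : Disc.Omega A B →ₗ[B] B :=
    { toFun := fun l => pr l Δ
      map_add' := fun l l' => by
        simp only [pr, Disc.Omega.add_toLinearMap, LinearMap.comp_add]
        rw [← LinearMap.add_apply]
        congr 1
        exact TensorProduct.ext' fun x y => by simp
      map_smul' := fun b l => by rw [hpl, hΔ, hpr]; rfl }
  have hdec : ∀ z : B ⊗[A] B, ∃ x : Module.Free.ChooseBasisIndex A B → B, z = ∑ i, x i ⊗ₜ bas i := fun z => by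
    induction z with
    | zero => exact ⟨0, by simp⟩
    | add s t hs ht =>
      obtain ⟨x, hx⟩ := hs; obtain ⟨y, hy⟩ := ht
      exact ⟨x + y, by simp [hx, hy, TensorProduct.add_tmul, Finset.sum_add_distrib]⟩
    | tmul b c =>
      refine ⟨fun i => bas.repr c i • b, ?_⟩
      conv_lhs => rw [← bas.sum_repr c, TensorProduct.tmul_sum]
      exact Finset.sum_congr rfl fun i _ => (TensorProduct.smul_tmul _ _ _).symm
  obtain ⟨x, hx⟩ := hdec Δ
  have hsurj : Function.Surjective Φ := by
    rw [← LinearMap.range_eq_top]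
    by_contra hne'
    obtain ⟨m, hm, hle⟩ := Ideal.exists_le_maximal (LinearMap.range Φ) hne'
    letI := Ideal.Quotient.field m
    refine hne (B ⧸ m) (Ideal.Quotient.mkₐ A m) ?_
    have hd2 : ∀ z : B ⊗[A] B, ∃ y : Module.Free.ChooseBasisIndex A B → B, z = ∑ i, bas i ⊗ₜ y i := fun z => by
      obtain ⟨y, hy⟩ := hdec (Algebra.TensorProduct.comm A B B z)
      refine ⟨y, (Algebra.TensorProduct.comm A B B).injective ?_⟩
      rw [hy, map_sum]
      simp
    obtain ⟨y, hy⟩ := hd2 Δ
    have hym : ∀ i, y i ∈ m := fun i => hle ⟨⟨bas.coord i⟩, by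
      show pr _ Δ = y i
      rw [hy, map_sum, Finset.sum_eq_single i]
      · simp [pr]
      · intro j _ hj
        simp [pr, Finsupp.single_eq_of_ne hj, Finsupp.single_eq_of_ne hj.symm]
      · exact fun h => absurd (Finset.mem_univ i) h⟩
    rw [hy, map_sum]
    exact Finset.sum_eq_zero fun i _ => by
      rw [Algebra.TensorProduct.map_tmul, Ideal.Quotient.mkₐ_eq_mk, Ideal.Quotient.eq_zero_iff_mem.2 (hym i),
        TensorProduct.tmul_zero]
  have hinj : Function.Injective Φ := by
    let d : (B →ₗ[A] A) ≃ₗ[A] B := bas.toDualEquiv.symm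
    let Ψ : B →ₗ[A] B :=
      { toFun := fun b => Φ ⟨d.symm b⟩
        map_add' := fun s t => by
          rw [show (⟨d.symm (s + t)⟩ : Disc.Omega A B) = ⟨d.symm s⟩ + ⟨d.symm t⟩ from
            Disc.Omega.ext (map_add d.symm s t), map_add]
        map_smul' := fun r s => by
          rw [show (⟨d.symm (r • s)⟩ : Disc.Omega A B) = algebraMap A B r • ⟨d.symm s⟩ from Disc.Omega.ext (by
            ext z; simp [← Algebra.smul_def]), map_smul, RingHom.id_apply, algebraMap_smul] }
    have hΨ : Function.Surjective Ψ := fun b => by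
      obtain ⟨⟨l⟩, hl⟩ := hsurj b
      exact ⟨d l, by show Φ ⟨d.symm (d l)⟩ = b; rw [LinearEquiv.symm_apply_apply]; exact hl⟩
    intro l l' h
    have := OrzechProperty.injective_of_surjective_endomorphism Ψ hΨ
      (a₁ := d l.toLinearMap) (a₂ := d l'.toLinearMap) (by
        show Φ ⟨d.symm (d l.toLinearMap)⟩ = Φ ⟨d.symm (d l'.toLinearMap)⟩
        rw [LinearEquiv.symm_apply_apply, LinearEquiv.symm_apply_apply]
        exact h)
    exact Disc.Omega.ext (d.injective this)
  let e := (LinearEquiv.ofBijective Φ ⟨hinj, hsurj⟩).symm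
  refine ⟨e, ?_⟩
  let lam := e 1
  have hlam : ∀ b : B, ∑ i, lam.toLinearMap (b * x i) • bas i = b := fun b => by
    have h1 : Φ (b • lam) = b := by
      rw [map_smul, show Φ lam = 1 from (LinearEquiv.ofBijective Φ ⟨hinj, hsurj⟩).apply_symm_apply 1, smul_eq_mul, mul_one]
    refine Eq.trans ?_ h1
    show _ = pr (b • lam) Δ
    rw [hx, map_sum]
    simp [pr]
  have hcoord : ∀ (i : Module.Free.ChooseBasisIndex A B) (y : B), bas.repr y i = lam.toLinearMap (y * x i) := fun i y => by
    conv_lhs => rw [← hlam y]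
    rw [bas.repr_sum_self]
  rw [← mul_one (jac mk f), ← smul_eq_mul, map_smul]
  refine Disc.Omega.ext (LinearMap.ext fun b => ?_)
  show lam.toLinearMap (jac mk f * b) = Algebra.trace A B b
  rw [Algebra.trace_eq_matrix_trace bas, ← hμ, hx, map_sum, Finset.sum_mul, map_sum, Matrix.trace]
  refine Finset.sum_congr rfl fun i _ => ?_
  rw [Matrix.diag_apply, Algebra.leftMulMatrix_eq_repr_mul, hcoord]
  congr 1
  simp
  ring

end

end Groth.Agent.TateDual
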