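import Groth.Agent.TateDual.Basic
import Groth.Agent.S8954
import Groth.Agent.S8931
import Groth.Agent.S6890
import Groth.Agent.S6892
import Groth.Agent.SyntLib.Hom
import Mathlib.RingTheory.Kaehler.TensorProduct
import Mathlib.RingTheory.Localization.BaseChange

/-!
The different of a finite free syntomic algebra is the Fitting ideal of its differentials.
-/

set_option autoImplicit false
set_option linter.style.haveILetI false
set_option maxHeartbeats 1000000
set_option backward.isDefEq.respectTransparency false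
universe u

open TensorProduct MvPolynomial

attribute [local instance] Algebra.TensorProduct.rightAlgebra

namespace Groth.Agent.TateDual

variable {A : Type u} [CommRing A]

theorem differentSet_eq_span {n : ℕ} {B : Type u} [CommRing B] [Algebra A B] (mk : MvPolynomial (Fin n) A →ₐ[A] B)
    (f : Fin n → MvPolynomial (Fin n) A) (hmk : Function.Surjective mk)
    (hker : RingHom.ker mk = Ideal.span (Set.range f)) [Module.Finite A B] [Module.Free A B] :
    Disc.differentSet A B = (Ideal.span {jac mk f} : Set B) := by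
  obtain ⟨e, he⟩ := exists_omega_equiv mk f hmk hker
  have key : ∀ (φ : Disc.Omega A B), φ = e.symm φ • e 1 := fun φ => by
    rw [← map_smul, smul_eq_mul, mul_one, e.apply_symm_apply]
  ext b
  rw [SetLike.mem_coe, Ideal.mem_span_singleton']
  constructor
  · intro hb
    obtain ⟨c, hc⟩ := hb (e 1).toLinearMap
    have h : e b = e (c * jac mk f) := by
      rw [← mul_one b, ← smul_eq_mul, map_smul, ← smul_eq_mul (a := c), map_smul, he]
      exact Disc.Omega.ext (LinearMap.ext fun x => hc x)
    exact ⟨c, (e.injective h).symm⟩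
  · rintro ⟨c, rfl⟩ φ
    refine ⟨e.symm ⟨φ⟩ * c, fun x => ?_⟩
    have h : (c * jac mk f) • (⟨φ⟩ : Disc.Omega A B) = (e.symm ⟨φ⟩ * c) • Disc.Omega.trace A B := by
      conv_lhs => rw [key ⟨φ⟩]
      rw [← he, ← map_smul, ← map_smul, ← map_smul]
      congr 1
      simp only [smul_eq_mul]
      ring
    exact LinearMap.congr_fun (congrArg Disc.Omega.toLinearMap h) x

theorem congr_ideal {B' M N : Type u} [CommRing B'] [AddCommGroup M] [Module B' M] [Module.Finite B' M]
    [AddCommGroup N] [Module B' N] (e : M ≃ₗ[B'] N) (k : ℕ) : Fitt.ideal B' M k = Fitt.ideal B' N k := by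
  haveI : Module.Finite B' N := Module.Finite.equiv e
  exact le_antisymm ((Groth.Agent.S6892.result M N k).2.2 e.toLinearMap e.surjective)
    ((Groth.Agent.S6892.result N M k).2.2 e.symm.toLinearMap e.symm.surjective)

theorem fitt_baseChange {B R B' : Type u} [CommRing B] [CommRing R] [CommRing B'] [Algebra A B] [Algebra A R]
    [Algebra R B'] [Algebra B B'] [Algebra A B'] [IsScalarTower A R B'] [IsScalarTower A B B']
    [Algebra.EssFiniteType A B] (h : Algebra.IsPushout A R B B') :
    Fitt.ideal B' (KaehlerDifferential R B') 0 =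
      (Fitt.ideal B (KaehlerDifferential A B) 0).map (algebraMap B B') := by
  haveI := h
  rw [← Groth.Agent.S6890.result (R := B) (R' := B') (KaehlerDifferential A B) 0]
  exact (congr_ideal (KaehlerDifferential.tensorKaehlerEquiv A R B B') 0).symm
theorem fitt_of_algEquiv {Q B : Type u} [CommRing Q] [CommRing B] [Algebra A Q] [Algebra A B] (e : Q ≃ₐ[A] B)
    [Algebra.EssFiniteType A Q] :
    Fitt.ideal B (KaehlerDifferential A B) 0 = (Fitt.ideal Q (KaehlerDifferential A Q) 0).map (e : Q →+* B) := by
  letI : Algebra Q B := (e : Q →+* B).toAlgebra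
  haveI : IsScalarTower A Q B := IsScalarTower.of_algebraMap_eq fun a => (e.commutes a).symm
  have hpo : Algebra.IsPushout A A Q B := ⟨IsBaseChange.ofEquiv e.toLinearEquiv⟩
  exact fitt_baseChange hpo

/-- The local case. -/
theorem differentSet_eq_fitting_local {B : Type u} [CommRing B] [Algebra A B] [IsLocalRing A] [Module.Finite A B]
    [Module.Free A B] (h : Synt.IsSyntomic A B) :
    Disc.differentSet A B = (Fitt.ideal B (KaehlerDifferential A B) 0 : Set B) := by
  obtain ⟨n, F, ⟨e⟩⟩ := (Groth.Agent.S8954.result A B).1 h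
  let mk : MvPolynomial (Fin n) A →ₐ[A] B := e.symm.toAlgHom.comp (Ideal.Quotient.mkₐ A (Ideal.span (Set.range F)))
  have hker : RingHom.ker mk = Ideal.span (Set.range F) := by
    ext x
    rw [RingHom.mem_ker]
    show e.symm _ = 0 ↔ _
    rw [map_eq_zero_iff e.symm e.symm.injective]
    exact Ideal.Quotient.eq_zero_iff_mem
  rw [differentSet_eq_span mk F (e.symm.surjective.comp (Ideal.Quotient.mkₐ_surjective A _)) hker]
  refine congrArg SetLike.coe ?_
  let Q := Synt.RelGCIRing A n n F
  haveI : Algebra.FiniteType A Q := inferInstance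
  have hQ : Fitt.ideal Q (KaehlerDifferential A Q) 0 =
      Ideal.span {Ideal.Quotient.mk (Ideal.span (Set.range F)) (Matrix.det (Matrix.of fun i j : Fin n => pderiv j (F i)))} := by
    rcases Nat.eq_zero_or_pos n with hn | hn
    · subst hn
      haveI : Algebra.FormallyUnramified A (MvPolynomial (Fin 0) A) :=
        Algebra.FormallyUnramified.of_equiv (MvPolynomial.isEmptyAlgEquiv A (Fin 0)).symm
      haveI : Algebra.FormallyUnramified A Q := Algebra.FormallyUnramified.of_surjective
        (Ideal.Quotient.mkₐ A (Ideal.span (Set.range F))) (Ideal.Quotient.mkₐ_surjective A _)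
      haveI : Subsingleton (KaehlerDifferential A Q) := Algebra.FormallyUnramified.subsingleton_kaehlerDifferential
      rw [(Groth.Agent.S6892.result (KaehlerDifferential A Q) (KaehlerDifferential A Q) 0).1 0 Fin.elim0
        (Subsingleton.elim _ _), Matrix.det_fin_zero, map_one, Ideal.span_singleton_one]
    · exact Groth.Agent.S8931.result A n hn F
  rw [fitt_of_algEquiv e.symm, hQ, Ideal.map_span, Set.image_singleton]
  rfl

theorem trace_one_tmul {B R : Type u} [CommRing B] [Algebra A B] [CommRing R] [Algebra A R] [Module.Finite A B]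
    [Module.Free A B] (x : B) :
    Algebra.trace R (R ⊗[A] B) (1 ⊗ₜ x) = algebraMap A R (Algebra.trace A B x) := by
  rw [Algebra.trace_apply, Algebra.trace_apply, ← LinearMap.trace_baseChange]
  congr 1
  refine LinearMap.ext fun z => ?_
  induction z with
  | zero => simp
  | add s t hs ht => rw [map_add, map_add, hs, ht]
  | tmul r y => simp [Algebra.TensorProduct.tmul_mul_tmul]

section Local

variable {B : Type u} [CommRing B] [Algebra A B] (R : Type u) [CommRing R] [Algebra A R] (S : Submonoid A)
  [IsLocalization S R] [Module.Finite A B] [Module.Free A B]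

theorem one_tmul_eq_iff (x y : B) :
    (1 : R) ⊗ₜ[A] x = 1 ⊗ₜ y ↔ ∃ s ∈ S, s • x = s • y := by
  haveI : IsLocalizedModule S (TensorProduct.mk A R B 1) :=
    (isLocalizedModule_iff_isBaseChange S R _).2 (TensorProduct.isBaseChange A B R)
  refine ⟨fun h => ?_, fun ⟨s, hs, h⟩ => ?_⟩
  · obtain ⟨s, hs⟩ := IsLocalizedModule.exists_of_eq (S := S) (f := TensorProduct.mk A R B 1) h
    exact ⟨s, s.2, hs⟩
  · have h' := congrArg (TensorProduct.mk A R B 1) h
    rw [map_smul, map_smul] at h'
    exact IsLocalizedModule.smul_injective (TensorProduct.mk A R B 1) (⟨s, hs⟩ : S) h'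

theorem surj_tmul (z : R ⊗[A] B) : ∃ (x : B) (s : A), s ∈ S ∧ algebraMap A R s • z = 1 ⊗ₜ x := by
  haveI : IsLocalizedModule S (TensorProduct.mk A R B 1) :=
    (isLocalizedModule_iff_isBaseChange S R _).2 (TensorProduct.isBaseChange A B R)
  obtain ⟨⟨x, s⟩, hs⟩ := IsLocalizedModule.surj S (TensorProduct.mk A R B 1) z
  exact ⟨x, s, s.2, by rw [algebraMap_smul]; exact hs⟩

/-- Membership in the different after localization. -/
theorem mem_differentSet_local (b : B) :
    (1 : R) ⊗ₜ[A] b ∈ Disc.differentSet R (R ⊗[A] B) ↔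
      ∀ φ : B →ₗ[A] A, ∃ s ∈ S, ∃ c : B, ∀ x, s * φ (b * x) = Algebra.trace A B (c * x) := by
  classical
  let bas := Module.Free.chooseBasis A B
  constructor
  · intro h φ
    obtain ⟨c', hc'⟩ := h ((Algebra.linearMap A R).comp φ |>.liftBaseChange R)
    obtain ⟨c, t, ht, hc⟩ := surj_tmul R S c'
    have h1 : ∀ x, algebraMap A R (t * φ (b * x)) = algebraMap A R (Algebra.trace A B (c * x)) := fun x => by
      have h2 := hc' (1 ⊗ₜ x)
      rw [Algebra.TensorProduct.tmul_mul_tmul, one_mul, LinearMap.liftBaseChange_tmul, one_smul,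
        LinearMap.comp_apply, Algebra.linearMap_apply] at h2
      rw [map_mul, h2, ← smul_eq_mul, ← map_smul, ← smul_mul_assoc, hc,
        Algebra.TensorProduct.tmul_mul_tmul, one_mul, trace_one_tmul]
    choose u hu using fun i => (IsLocalization.eq_iff_exists S R).1 (h1 (bas i))
    let v : A := ∏ i, (u i : A)
    refine ⟨v * t, S.mul_mem (S.prod_mem fun i _ => (u i).2) ht, v • c, fun x => ?_⟩
    have h3 : ((v * t) • φ.comp (LinearMap.mulLeft A b)) =
        (Algebra.trace A B).comp (LinearMap.mulLeft A (v • c)) := bas.ext fun i => by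
      show v * t * φ (b * bas i) = Algebra.trace A B (v • c * bas i)
      rw [smul_mul_assoc, map_smul, smul_eq_mul, show v = (u i : A) * ∏ j ∈ Finset.univ.erase i, (u j : A) from
        (Finset.mul_prod_erase _ (fun j => (u j : A)) (Finset.mem_univ i)).symm]
      linear_combination (∏ j ∈ Finset.univ.erase i, (u j : A)) * hu i
    exact LinearMap.congr_fun h3 x
  · intro h φ'
    obtain ⟨⟨t, ht⟩, htφ⟩ := IsLocalization.exist_integer_multiples_of_finite S fun i => φ' (1 ⊗ₜ bas i)
    choose a ha using htφ
    let φ : B →ₗ[A] A := bas.constr A a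
    obtain ⟨s, hs, c, hc⟩ := h φ
    have hu : IsUnit (algebraMap A R (s * t)) := IsLocalization.map_units R (⟨s * t, S.mul_mem hs ht⟩ : S)
    refine ⟨(hu.unit⁻¹ : Rˣ) • ((1 : R) ⊗ₜ[A] c), fun z => ?_⟩
    have hφ : ∀ x, algebraMap A R t * φ' (1 ⊗ₜ x) = algebraMap A R (φ x) := fun x => by
      have : (algebraMap A R t • φ').restrictScalars A ∘ₗ TensorProduct.mk A R B 1 = (Algebra.linearMap A R).comp φ :=
        bas.ext fun i => by
          show algebraMap A R t * φ' (1 ⊗ₜ bas i) = algebraMap A R (φ (bas i))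
          rw [show φ (bas i) = a i from bas.constr_basis A a i, ha i, Algebra.smul_def]
      exact LinearMap.congr_fun this x
    induction z with
    | zero => simp
    | add p q hp hq => rw [mul_add, mul_add, map_add, map_add, hp, hq]
    | tmul r x =>
      rw [show (r ⊗ₜ[A] x) = r • ((1 : R) ⊗ₜ[A] x) by rw [TensorProduct.smul_tmul', smul_eq_mul, mul_one],
        mul_smul_comm, mul_smul_comm, map_smul, map_smul, smul_mul_assoc, Units.smul_def, map_smul]
      congr 1
      rw [Algebra.TensorProduct.tmul_mul_tmul, Algebra.TensorProduct.tmul_mul_tmul, one_mul, trace_one_tmul, ← hc,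
        smul_eq_mul, map_mul _ s (φ _), ← hφ]
      have h1 : ((hu.unit⁻¹ : Rˣ) : R) * (algebraMap A R s * algebraMap A R t) = 1 := by
        rw [← map_mul]
        exact hu.val_inv_mul
      linear_combination (-(φ' ((1 : R) ⊗ₜ[A] (b * x)))) * h1

end Local

theorem differentSet_eq_fitting {B : Type u} [CommRing B] [Algebra A B] [Module.Finite A B] [Module.Free A B]
    (h : Synt.IsSyntomic A B) :
    Disc.differentSet A B = (Fitt.ideal B (KaehlerDifferential A B) 0 : Set B) := by
  ext b
  let F := Fitt.ideal B (KaehlerDifferential A B) 0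
  have key : ∀ (p : Ideal A) [p.IsPrime],
      (∀ φ : B →ₗ[A] A, ∃ s ∈ p.primeCompl, ∃ c : B, ∀ x, s * φ (b * x) = Algebra.trace A B (c * x)) ↔
      ∃ s ∈ p.primeCompl, s • b ∈ F := fun p _ => by
    let R := Localization.AtPrime p
    rw [← mem_differentSet_local R p.primeCompl b,
      differentSet_eq_fitting_local (SyntLib.isSyntomic_baseChange R h), SetLike.mem_coe,
      fitt_baseChange (A := A) (B := B) (R := R) (B' := R ⊗[A] B) inferInstance]
    show algebraMap B (R ⊗[A] B) b ∈ F.map (algebraMap B (R ⊗[A] B)) ↔ _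
    have hloc : IsLocalization (Algebra.algebraMapSubmonoid B p.primeCompl) (R ⊗[A] B) := inferInstance
    rw [IsLocalization.algebraMap_mem_map_algebraMap_iff (Algebra.algebraMapSubmonoid B p.primeCompl)]
    constructor
    · rintro ⟨_, ⟨s, hs, rfl⟩, h⟩
      exact ⟨s, hs, by rwa [Algebra.smul_def]⟩
    · rintro ⟨s, hs, h⟩
      exact ⟨_, ⟨s, hs, rfl⟩, by rwa [← Algebra.smul_def]⟩
  constructor
  · intro hb
    by_contra hbF
    obtain ⟨p, hp, hle⟩ := Ideal.exists_le_maximal ((Submodule.comap (LinearMap.toSpanSingleton A B b)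
      (F.restrictScalars A))) (fun htop => hbF (by
        have : (1 : A) ∈ Submodule.comap (LinearMap.toSpanSingleton A B b) (F.restrictScalars A) := htop ▸ trivial
        simpa using this))
    obtain ⟨s, hs, hsb⟩ := (key p).1 fun φ => ⟨1, p.primeCompl.one_mem, by
      obtain ⟨c, hc⟩ := hb φ
      exact ⟨c, fun x => by rw [one_mul]; exact hc x⟩⟩
    exact hs (hle (by simpa using hsb))
  · intro hb φ
    let J : Ideal A :=
      { carrier := {s | ∃ c : B, ∀ x, s * φ (b * x) = Algebra.trace A B (c * x)}
        add_mem' := fun ⟨c, hc⟩ ⟨d, hd⟩ => ⟨c + d, fun x => by rw [add_mul, add_mul, map_add, hc, hd]⟩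
        zero_mem' := ⟨0, fun x => by simp⟩
        smul_mem' := fun r s ⟨c, hc⟩ => ⟨r • c, fun x => by
          rw [smul_eq_mul, mul_assoc, hc, smul_mul_assoc, map_smul, smul_eq_mul]⟩ }
    have hJ : J = ⊤ := by
      by_contra hne
      obtain ⟨p, hp, hle⟩ := Ideal.exists_le_maximal J hne
      obtain ⟨s, hs, c, hc⟩ := (key p).2 ⟨1, p.primeCompl.one_mem, by rw [one_smul]; exact hb⟩ φ
      exact hs (hle ⟨c, hc⟩)
    obtain ⟨c, hc⟩ : (1 : A) ∈ J := hJ ▸ trivial
    exact ⟨c, fun x => by rw [← hc x, one_mul]⟩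

end Groth.Agent.TateDual
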